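import Cfsg.Agent.FischerThm.Local.Lines

/-!
# Recognition and sub-classes

A bijection between two classes keeping conjugation comes from an isomorphism. A faithful closed
set whose local sets are again faithful classes gives the recursive case for its image.
-/

set_option autoImplicit false

open Cfsg
open Cfsg.Agent.ThreeTrans (dperp lowImage commBlock commute_conj inv_eq)

namespace Cfsg.Agent.FischerThm

variable {G K : Type*} [Group G] [Group K] {D : Set G} {E : Set K} {T : Set G}

/-- Conjugation as permutations of a conjugation closed set. -/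
def conjPerm (hc : ∀ g : G, ∀ d ∈ D, g * d * g⁻¹ ∈ D) : G →* Equiv.Perm D :=
  MonoidHom.mk' (fun g =>
    { toFun := fun x => ⟨g * x * g⁻¹, hc g x x.2⟩
      invFun := fun x => ⟨g⁻¹ * x * g, by simpa using hc g⁻¹ x x.2⟩
      left_inv := fun x => Subtype.ext (by simp [mul_assoc])
      right_inv := fun x => Subtype.ext (by simp [mul_assoc]) })
    fun g h => Equiv.ext fun x => Subtype.ext (by simp [mul_assoc])

theorem conjPerm_injective (hD : IsThreeTranspositionGroup D) (hZ : Subgroup.center G = ⊥) :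
    Function.Injective (conjPerm hD.2.1) := by
  refine (injective_iff_map_eq_one _).2 fun g hg => ?_
  rw [← Subgroup.mem_bot, ← hZ]
  refine ThreeTrans.mem_center_of_commute hD.2.2 fun e he => ?_
  have h := congrArg Subtype.val (DFunLike.congr_fun hg (⟨e, he⟩ : D))
  exact mul_inv_eq_iff_eq_mul.1 h

/-- A bijection keeping conjugation comes from an isomorphism. -/
theorem equiv_of_bij (hD : IsThreeTranspositionGroup D) (hZ : Subgroup.center G = ⊥)
    (hE : IsThreeTranspositionGroup E) (hZE : Subgroup.center K = ⊥) {σ : G → K}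
    (hσ : Set.BijOn σ D E) (hconj : ∀ x ∈ D, ∀ y ∈ D, σ (x * y * x) = σ x * σ y * σ x) :
    ∃ e : G ≃* K, e '' D = E ∧ ∀ x ∈ D, e x = σ x := by
  let τ : D ≃ E := hσ.equiv σ
  let P : Equiv.Perm D ≃* Equiv.Perm E := τ.permCongrHom
  set Φ : G →* Equiv.Perm E := P.toMonoidHom.comp (conjPerm hD.2.1) with hΦ
  set Ψ : K →* Equiv.Perm E := conjPerm hE.2.1 with hΨ
  have hgen : ∀ x ∈ D, Φ x = Ψ (σ x) := by
    intro x hx
    refine Equiv.ext fun e => ?_
    obtain ⟨y, rfl⟩ := τ.surjective e
    apply Subtype.ext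
    show (τ ((conjPerm hD.2.1 x) (τ.symm (τ y))) : K) = σ x * σ y * (σ x)⁻¹
    rw [Equiv.symm_apply_apply, inv_eq hE.1 (hσ.mapsTo hx), ← hconj x hx y y.2]
    show σ (x * y * x⁻¹) = _
    rw [inv_eq hD.1 hx]
  have hrange : Φ.range = Ψ.range := by
    rw [MonoidHom.range_eq_map, MonoidHom.range_eq_map, ← hD.2.2, ← hE.2.2, MonoidHom.map_closure,
      MonoidHom.map_closure]
    congr 1
    apply Set.Subset.antisymm
    · rintro - ⟨x, hx, rfl⟩
      exact ⟨σ x, hσ.mapsTo hx, (hgen x hx).symm⟩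
    · rintro - ⟨y, hy, rfl⟩
      obtain ⟨x, hx, rfl⟩ := hσ.surjOn hy
      exact ⟨x, hx, hgen x hx⟩
  have hΦi : Function.Injective Φ := P.injective.comp (conjPerm_injective hD hZ)
  let e : G ≃* K := ((MonoidHom.ofInjective hΦi).trans (MulEquiv.subgroupCongr hrange)).trans
    (MonoidHom.ofInjective (conjPerm_injective hE hZE)).symm
  have he : ∀ x ∈ D, e x = σ x := by
    intro x hx
    apply conjPerm_injective hE hZE
    show Ψ (e x) = Ψ (σ x)
    rw [← hgen x hx]
    show (MonoidHom.ofInjective (conjPerm_injective hE hZE) (e x) : Equiv.Perm E) = _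
    simp only [e, MulEquiv.trans_apply, MulEquiv.apply_symm_apply]
    rfl
  refine ⟨e, ?_, he⟩
  rw [← hσ.image_eq]
  exact Set.image_congr he

/-- The same for two classes satisfying the hypothesis of the induction. -/
theorem diso_of_bij [Finite G] [Finite K] (H : Hyp D) (HE : Hyp E) {σ : G → K}
    (hσ : Set.BijOn σ D E) (hconj : ∀ x ∈ D, ∀ y ∈ D, σ (x * y * x) = σ x * σ y * σ x) :
    ∃ e : G ≃* K, e '' D = E ∧ ∀ x ∈ D, e x = σ x :=
  equiv_of_bij H.group H.center_eq_bot HE.group HE.center_eq_bot hσ hconj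

/-- A map, multiplicative on the group a set generates and injective on the set, identifies the
groups modulo their centres. -/
theorem exists_closed_iso (hT : IsThreeTranspositionSet T)
    (hc : ∀ u ∈ T, ∀ v ∈ T, u * v * u ∈ T) {φ : G → K}
    (hmul : ∀ u ∈ Subgroup.closure T, ∀ v ∈ Subgroup.closure T, φ (u * v) = φ u * φ v)
    (hinj : Set.InjOn φ T) :
    ∃ e : Subgroup.closure T ⧸ Subgroup.center (Subgroup.closure T) ≃*
        Subgroup.closure (φ '' T) ⧸ Subgroup.center (Subgroup.closure (φ '' T)),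
      (∀ x ∈ T, e (barOn T x) = barOn (φ '' T) (φ x)) ∧ e '' closedImage T = closedImage (φ '' T) := by
  let f₀ : Subgroup.closure T →* K := MonoidHom.mk' (fun u => φ u) fun u v => hmul u u.2 v v.2
  have hr : f₀.range = Subgroup.closure (φ '' T) := by
    rw [MonoidHom.range_eq_map, ← closure_inClosure T, MonoidHom.map_closure]
    congr 1
    apply Set.Subset.antisymm
    · rintro - ⟨u, hu, rfl⟩
      exact ⟨u, hu, rfl⟩
    · rintro - ⟨u, hu, rfl⟩
      exact ⟨⟨u, Subgroup.subset_closure hu⟩, hu, rfl⟩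
  let f : Subgroup.closure T →* Subgroup.closure (φ '' T) :=
    f₀.codRestrict _ fun u => hr ▸ ⟨u, rfl⟩
  have hf : Function.Surjective f := fun w => by
    obtain ⟨u, hu⟩ : (w : K) ∈ f₀.range := by rw [hr]; exact w.2
    exact ⟨u, Subtype.ext hu⟩
  have hg := group_inClosure hT hc
  obtain ⟨e, he⟩ := exists_quot_iso (f := f) hg.2.2 hg.2.1 hf
    fun u hu v hv h => Subtype.ext (hinj hu hv (congrArg Subtype.val h))
  have hval : ∀ x ∈ T, e (barOn T x) = barOn (φ '' T) (φ x) := fun x hx => by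
    rw [barOn_mk T (Subgroup.subset_closure hx), he,
      barOn_mk (φ '' T) (Subgroup.subset_closure ⟨x, hx, rfl⟩)]
    rfl
  refine ⟨e, hval, ?_⟩
  rw [← image_barOn T, Set.image_image, Set.image_congr hval, ← image_barOn (φ '' T),
    Set.image_image]

/-- A faithful closed set with faithful classes as local sets gives a recursive case. -/
theorem closed_step [Finite G] (hT : IsThreeTranspositionSet T)
    (hc : ∀ u ∈ T, ∀ v ∈ T, u * v * u ∈ T) (H : Hyp (closedImage T)) (F : Faithful T) {x : G}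
    (hx : x ∈ T) (Hx : Hyp (closedImage (dperp T x))) (Fx : Faithful (dperp T x)) :
    Step (closedImage T) (barOn T x) ∧
      ∃ e : Subgroup.closure (dperp T x) ⧸ Subgroup.center (Subgroup.closure (dperp T x)) ≃*
          LowBar (closedImage T) (barOn T x),
        e '' closedImage (dperp T x) = lowSet (closedImage T) (barOn T x) := by
  set Tx := dperp T x with hTxdef
  have hgT : ∀ u ∈ Tx, ∀ v ∈ Tx, u * v * u ∈ Tx := fun u hu v hv => by
    refine ⟨hc u hu.1 v hv.1, fun h => hv.2.1 ?_, (hu.2.2.mul_right hv.2.2).mul_right hu.2.2⟩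
    calc v = u * (u * v * u) * u := by
          simp only [mul_assoc, ThreeTrans.mul_self hT hu.1, mul_one,
            ThreeTrans.mul_self_mul hT hu.1]
      _ = x := by rw [h, hu.2.2.symm.eq, ThreeTrans.mul_mul_self hT hu.1]
  have hTxset : IsThreeTranspositionSet Tx := set_mono hT fun _ h => h.1
  have himg : barOn T '' Tx = dperp (closedImage T) (barOn T x) := by
    apply Set.Subset.antisymm
    · rintro - ⟨u, hu, rfl⟩
      exact ⟨barOn_mapsTo hu.1, fun h => hu.2.1 (F.inj hu.1 hx h),
        (F.comm x hx u hu.1).2 hu.2.2⟩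
    · intro q hq
      obtain ⟨u, hu, rfl⟩ := F.bij.surjOn hq.1
      exact ⟨u, ⟨hu, fun h => hq.2.1 (by rw [h]), (F.comm x hx u hu).1 hq.2.2⟩, rfl⟩
  -- the local set is one class in the group it generates
  have hgx := group_inClosure hTxset hgT
  have hcls : IsThreeTranspositionClass (inClosure Tx) := by
    obtain ⟨q, hq⟩ := Hx.nonempty
    obtain ⟨a, ha, rfl⟩ := Fx.bij.surjOn hq
    refine ⟨hgx.1, ⟨⟨a, Subgroup.subset_closure ha⟩, ha, Set.Subset.antisymm ?_ ?_⟩, hgx.2.2⟩
    · intro u hu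
      obtain ⟨k, hk⟩ := ThreeTrans.class_isConj Hx.cls (barOn_mapsTo ha) (barOn_mapsTo hu)
      obtain ⟨k, rfl⟩ := QuotientGroup.mk_surjective k
      have hkD := conj_mem_closed hTxset hgT k.2 a ha
      have h1 : barOn Tx ((k : G) * a * (k : G)⁻¹) = barOn Tx u := by
        rw [← hk, barOn_mul (mul_mem k.2 (Subgroup.subset_closure ha)) (inv_mem k.2),
          barOn_mul k.2 (Subgroup.subset_closure ha), barOn_coe, ← QuotientGroup.mk_inv,
          ← barOn_coe Tx k⁻¹]
        rfl
      exact isConj_iff.2 ⟨k, Subtype.ext (Fx.inj hkD hu h1)⟩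
    · intro u hu
      obtain ⟨k, rfl⟩ := isConj_iff.1 hu
      exact hgx.2.1 k _ ha
  let π := QuotientGroup.mk' (Subgroup.center (Subgroup.closure Tx))
  have hcore : ∀ p : ℕ, Fact p.Prime →
      pCore p (Subgroup.closure Tx) ≤ Subgroup.center (Subgroup.closure Tx) := by
    intro p hp u hu
    refine (QuotientGroup.eq_one_iff u).1 ?_
    have h := Core.map_pCore_le_of_surjective (p := p) (f := π) (QuotientGroup.mk'_surjective _)
      ⟨u, hu, rfl⟩
    rwa [Hx.pCore_bot p, Subgroup.mem_bot] at h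
  -- the map to the local group of the image
  have hle : Subgroup.closure Tx ≤ Subgroup.closure T := Subgroup.closure_mono fun _ h => h.1
  let g₀ : Subgroup.closure Tx →* Subgroup.closure T ⧸ Subgroup.center (Subgroup.closure T) :=
    (QuotientGroup.mk' _).comp (Subgroup.inclusion hle)
  have hg₀ : ∀ u : Subgroup.closure Tx, g₀ u = barOn T u := fun u =>
    (barOn_coe T (Subgroup.inclusion hle u)).symm
  have hr : g₀.range = lowGroup (closedImage T) (barOn T x) := by
    rw [MonoidHom.range_eq_map, ← closure_inClosure Tx, MonoidHom.map_closure, lowGroup, ← himg]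
    congr 1
    apply Set.Subset.antisymm
    · rintro - ⟨u, hu, rfl⟩
      exact ⟨u, hu, (hg₀ u).symm⟩
    · rintro - ⟨u, hu, rfl⟩
      exact ⟨⟨u, Subgroup.subset_closure hu⟩, hu, hg₀ _⟩
  let f : Subgroup.closure Tx →* lowGroup (closedImage T) (barOn T x) :=
    g₀.codRestrict _ fun u => hr ▸ ⟨u, rfl⟩
  have hf : Function.Surjective f := fun w => by
    obtain ⟨u, hu⟩ : w.1 ∈ g₀.range := by rw [hr]; exact w.2
    exact ⟨u, Subtype.ext hu⟩
  have hfinj : Set.InjOn f (inClosure Tx) := fun u hu v hv h => Subtype.ext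
    (F.inj hu.1 hv.1 (by rw [← hg₀, ← hg₀]; exact congrArg Subtype.val h))
  have h2 := hcore 2 ⟨Nat.prime_two⟩
  have h3 := hcore 3 ⟨Nat.prime_three⟩
  have : Fact (Nat.Prime 2) := ⟨Nat.prime_two⟩
  have : Fact (Nat.Prime 3) := ⟨Nat.prime_three⟩
  refine ⟨⟨H, barOn_mapsTo hx, fun hs => Hx.not_solvable ?_,
    cores_map hcls hf hfinj h2 h3, cores_map hcls hf hfinj h2 h3⟩, ?_⟩
  · have := solvable_of_map hgx.2.2 hgx.2.1 hf hfinj hs
    exact Group.isSolvable_of_surjective (f := π) (QuotientGroup.mk'_surjective _)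
  · obtain ⟨e, he⟩ := exists_quot_iso (f := f) hgx.2.2 hgx.2.1 hf hfinj
    refine ⟨e, ?_⟩
    apply Set.Subset.antisymm
    · rintro - ⟨-, ⟨u, hu, rfl⟩, rfl⟩
      refine ⟨f u, ?_, (he u).symm⟩
      show (f u).1 ∈ dperp (closedImage T) (barOn T x)
      rw [← himg]
      exact ⟨u, hu, (hg₀ u).symm⟩
    · rintro - ⟨w, hw, rfl⟩
      have hw' : (w : Subgroup.closure T ⧸ Subgroup.center (Subgroup.closure T)) ∈ barOn T '' Tx := by
        rw [himg]; exact hw
      obtain ⟨u, hu, hwu⟩ := hw'
      refine ⟨_, ⟨⟨u, Subgroup.subset_closure hu⟩, hu, rfl⟩, ?_⟩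
      show e ((⟨u, Subgroup.subset_closure hu⟩ : Subgroup.closure Tx) : _) = _
      rw [he]
      congr 1
      exact Subtype.ext ((hg₀ _).trans hwu)

end Cfsg.Agent.FischerThm
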