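import Cfsg.Agent.FischerThm.Local.Step

/-!
# Charts of the partners of a member

`bar D d` is the projection to the smaller group; composed with an isomorphism it gives a chart.
A chart at `d` moved by a conjugation gives one at every member, which describes the common
partners seen from one of them.
-/

set_option autoImplicit false

open Cfsg
open Cfsg.Agent.ThreeTrans (dperp lowImage Tau Theta commBlock commute_conj)

namespace Cfsg.Agent.FischerThm

variable {G K : Type*} [Group G] [Group K] {D : Set G} {E : Set K} {a b c d u v x y z g : G}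
  {φ : G → K}

/-- The projection to the smaller group. -/
noncomputable def bar (D : Set G) (d : G) : G → LowBar D d := barOn (dperp D d)

theorem bar_mul (hu : u ∈ lowGroup D d) (hv : v ∈ lowGroup D d) :
    bar D d (u * v) = bar D d u * bar D d v := barOn_mul hu hv

theorem bar_mk (hu : u ∈ lowGroup D d) :
    bar D d u = ((⟨u, hu⟩ : lowGroup D d) : LowBar D d) := barOn_mk _ hu

theorem image_bar (D : Set G) (d : G) : bar D d '' dperp D d = lowSet D d := image_barOn _

/-- Conjugation by a fixed element moves a set of partners. -/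
theorem bijOn_conj_dperp (hc : ∀ g : G, ∀ d ∈ D, g * d * g⁻¹ ∈ D) (g : G) (d : G) :
    Set.BijOn (fun u => g * u * g⁻¹) (dperp D d) (dperp D (g * d * g⁻¹)) := by
  refine ⟨fun u hu => ThreeTrans.dperp_conj hc g hu,
    fun u _ v _ h => mul_left_cancel (mul_right_cancel h), fun w hw => ⟨g⁻¹ * w * g, ?_, by group⟩⟩
  have h := ThreeTrans.dperp_conj hc g⁻¹ hw
  rwa [show g⁻¹ * (g * d * g⁻¹) * g⁻¹⁻¹ = d by group, inv_inv] at h

theorem map_lowGroup (hc : ∀ g : G, ∀ d ∈ D, g * d * g⁻¹ ∈ D) (g d : G) :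
    (lowGroup D d).map (MulAut.conj g).toMonoidHom = lowGroup D (g * d * g⁻¹) := by
  rw [MonoidHom.map_closure]
  congr 1
  exact (bijOn_conj_dperp hc g d).image_eq

namespace Chart

variable (C : Chart D d E φ)
include C

theorem mem (hu : u ∈ dperp D d) : φ u ∈ E := C.bij.mapsTo hu

theorem inj (hu : u ∈ dperp D d) (hv : v ∈ dperp D d) (h : φ u = φ v) : u = v :=
  C.bij.injOn hu hv h

theorem eq_iff (hu : u ∈ dperp D d) (hv : v ∈ dperp D d) : φ u = φ v ↔ u = v :=
  ⟨C.inj hu hv, fun h => by rw [h]⟩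

theorem exists_eq {e : K} (he : e ∈ E) : ∃ u ∈ dperp D d, φ u = e := C.bij.surjOn he

theorem mem_dperp_iff (hu : u ∈ dperp D d) (hv : v ∈ dperp D d) :
    φ v ∈ dperp E (φ u) ↔ v ∈ dperp D u := by
  constructor
  · rintro ⟨-, hne, hcm⟩
    exact ⟨hv.1, fun h => hne (by rw [h]), (C.comm u hu v hv).1 hcm⟩
  · rintro ⟨-, hne, hcm⟩
    exact ⟨C.mem hv, fun h => hne (C.inj hv hu h), (C.comm u hu v hv).2 hcm⟩

/-- The partners of `u` among those of `d` go onto the partners of its image. -/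
theorem bijOn_dperp (hu : u ∈ dperp D d) :
    Set.BijOn φ (dperp D d ∩ dperp D u) (dperp E (φ u)) := by
  refine ⟨fun v hv => (C.mem_dperp_iff hu hv.1).2 hv.2, C.bij.injOn.mono Set.inter_subset_left,
    fun e he => ?_⟩
  obtain ⟨v, hv, rfl⟩ := C.exists_eq he.1
  exact ⟨v, ⟨hv, (C.mem_dperp_iff hu hv).1 he⟩, rfl⟩

theorem ncard_eq : (dperp D d).ncard = E.ncard := by
  rw [← C.bij.image_eq, Set.InjOn.ncard_image C.bij.injOn]

end Chart

/-- A chart moved by a conjugation. -/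
theorem Chart.moveTo (C : Chart D d E φ) (hc : ∀ g : G, ∀ d ∈ D, g * d * g⁻¹ ∈ D)
    (hg : g * x * g⁻¹ = d) : Chart D x E (fun u => φ (g * u * g⁻¹)) := by
  have hb := bijOn_conj_dperp hc g x
  rw [hg] at hb
  refine ⟨C.bij.comp hb, fun u hu v hv => ?_, fun u hu v hv => ?_⟩
  · exact (C.comm _ (hb.mapsTo hu) _ (hb.mapsTo hv)).trans (commute_conj g u v)
  · show φ (g * (u * v * u) * g⁻¹) = _
    rw [show g * (u * v * u) * g⁻¹ = g * u * g⁻¹ * (g * v * g⁻¹) * (g * u * g⁻¹) by group]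
    exact C.conj _ (hb.mapsTo hu) _ (hb.mapsTo hv)

variable [Finite G]

namespace Step

variable (S : Step D d)
include S

theorem barChart : Chart D d (lowSet D d) (bar D d) :=
  ⟨S.faithful.bij, S.faithful.comm, fun _ hu _ hv => barOn_conj hu hv⟩

/-- A chart from an isomorphism carrying the smaller class onto `E`. -/
theorem chart_of_equiv (e : LowBar D d ≃* K) (he : e '' lowSet D d = E) :
    Chart D d E (e ∘ bar D d) := by
  refine ⟨?_, fun u hu v hv => ?_, fun u hu v hv => ?_⟩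
  · refine Set.BijOn.comp ⟨?_, e.injective.injOn, ?_⟩ S.barChart.bij
    · exact fun w hw => he ▸ ⟨w, hw, rfl⟩
    · exact he.ge
  · rw [← S.barChart.comm u hu v hv]
    exact ⟨fun h => by simpa using h.map e.symm.toMonoidHom, fun h => h.map e.toMonoidHom⟩
  · simp only [Function.comp_apply, S.barChart.conj u hu v hv, map_mul]

theorem exists_chart (h : ∃ e : LowBar D d ≃* K, e '' lowSet D d = E) : ∃ φ, Chart D d E φ :=
  let ⟨e, he⟩ := h
  ⟨_, S.chart_of_equiv e he⟩

omit [Finite G] in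
/-- The recursive case holds at every member. -/
theorem move (hx : x ∈ D) : Step D x := by
  obtain ⟨g, rfl⟩ := ThreeTrans.class_isConj S.cls S.mem hx
  have hc := ThreeTrans.class_conj S.cls
  let ε : lowGroup D d ≃* lowGroup D (g * d * g⁻¹) :=
    ((lowGroup D d).equivMapOfInjective _ (MulAut.conj g).injective).trans
      (MulEquiv.subgroupCongr (map_lowGroup hc g d))
  have hcen : (Subgroup.center (lowGroup D d)).map ε.toMonoidHom ≤
      Subgroup.center (lowGroup D (g * d * g⁻¹)) := by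
    rintro - ⟨z, hz, rfl⟩
    rw [Subgroup.mem_center_iff]
    intro w
    obtain ⟨w, rfl⟩ := ε.surjective w
    show ε w * ε z = ε z * ε w
    rw [← map_mul, ← map_mul, Subgroup.mem_center_iff.1 hz w]
  refine ⟨S.toHyp, hx, fun h => S.nonsolv ?_, ?_, ?_⟩
  · have := h
    exact Group.isSolvable_of_surjective (f := ε.symm.toMonoidHom) ε.symm.surjective
  · exact (Core.map_pCore (p := 2) ε).ge.trans ((Subgroup.map_mono S.core2).trans hcen)
  · exact (Core.map_pCore (p := 3) ε).ge.trans ((Subgroup.map_mono S.core3).trans hcen)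

/-- The common partners of `d` and `c` seen from one of them: in a chart they correspond to the
common partners of a noncommuting pair of `E`. -/
theorem local_common (C : Chart D d E φ) (hc : c ∈ aside D d) (hx : x ∈ common D d c) :
    ∃ a ∈ E, ∃ c' ∈ aside E a, ∃ ψ : K → K, Set.BijOn ψ (dperp E (φ x)) (dperp E a) ∧
      (∀ e ∈ dperp E (φ x), ∀ f ∈ dperp E (φ x), Commute (ψ e) (ψ f) ↔ Commute e f) ∧
      (∀ e ∈ dperp E (φ x), ∀ f ∈ dperp E (φ x), ψ (e * f * e) = ψ e * ψ f * ψ e) ∧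
      ∀ z ∈ dperp D d ∩ dperp D x, (z ∈ common D d c ↔ ψ (φ z) ∈ dperp E c') := by
  classical
  obtain ⟨g, hg⟩ := ThreeTrans.class_isConj S.cls hx.1.1 S.mem
  have hcj := ThreeTrans.class_conj S.cls
  set θ : G → K := fun u => φ (g * u * g⁻¹) with hθ
  have C' : Chart D x E θ := C.moveTo hcj hg
  have hdx : d ∈ dperp D x := ⟨S.mem, Ne.symm hx.1.2.1, hx.1.2.2.symm⟩
  have hcx : c ∈ dperp D x := ⟨hc.1, fun h => hc.2 (h ▸ hx.1.2.2), hx.2.2.2.symm⟩
  have hac : θ c ∈ aside E (θ d) := ⟨C'.mem hcx, fun h => hc.2 ((C'.comm d hdx c hcx).1 h)⟩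
  have hφ := C.bijOn_dperp hx.1
  have hθd : Set.BijOn θ (dperp D d ∩ dperp D x) (dperp E (θ d)) := by
    rw [Set.inter_comm]
    exact C'.bijOn_dperp hdx
  set ψ : K → K := fun e => if h : ∃ u ∈ dperp D d ∩ dperp D x, φ u = e then θ h.choose else 1
    with hψdef
  have hψ : ∀ u ∈ dperp D d ∩ dperp D x, ψ (φ u) = θ u := by
    intro u hu
    have h : ∃ v ∈ dperp D d ∩ dperp D x, φ v = φ u := ⟨u, hu, rfl⟩
    rw [hψdef]
    simp only [dif_pos h]
    rw [C.inj h.choose_spec.1.1 hu.1 h.choose_spec.2]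
  refine ⟨θ d, C'.mem hdx, θ c, hac, ψ, ⟨?_, ?_, ?_⟩, ?_, ?_, ?_⟩
  · intro e he
    obtain ⟨u, hu, rfl⟩ := hφ.surjOn he
    rw [hψ u hu]
    exact hθd.mapsTo hu
  · intro e he f hf h
    obtain ⟨u, hu, rfl⟩ := hφ.surjOn he
    obtain ⟨v, hv, rfl⟩ := hφ.surjOn hf
    rw [hψ u hu, hψ v hv] at h
    rw [hθd.injOn hu hv h]
  · intro e he
    obtain ⟨u, hu, rfl⟩ := hθd.surjOn he
    exact ⟨φ u, hφ.mapsTo hu, hψ u hu⟩
  · intro e he f hf
    obtain ⟨u, hu, rfl⟩ := hφ.surjOn he
    obtain ⟨v, hv, rfl⟩ := hφ.surjOn hf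
    rw [hψ u hu, hψ v hv, C'.comm u hu.2 v hv.2, C.comm u hu.1 v hv.1]
  · intro e he f hf
    obtain ⟨u, hu, rfl⟩ := hφ.surjOn he
    obtain ⟨v, hv, rfl⟩ := hφ.surjOn hf
    have huv : u * v * u ∈ dperp D d ∩ dperp D x :=
      ⟨dperp_closed S.group d u hu.1 v hv.1, dperp_closed S.group x u hu.2 v hv.2⟩
    rw [hψ u hu, hψ v hv, ← C.conj u hu.1 v hv.1, hψ _ huv]
    exact C'.conj u hu.2 v hv.2
  · intro z hz
    rw [hψ z hz, C'.mem_dperp_iff hcx hz.2]
    exact ⟨fun h => h.2, fun h => ⟨hz.1, h⟩⟩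

end Step

end Cfsg.Agent.FischerThm
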