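import Cfsg.Agent.FischerThm.Local.Quot

/-!
# Closed subsets of a class as classes of their own

`closedImage T` is the image of `T` in the group it generates modulo the centre, `barOn T` the map
to it. If `T` is one class there, has connected commuting graph and central cores, then `T` maps
bijectively and the image satisfies the hypothesis of the induction.
-/

set_option autoImplicit false

open Cfsg
open Cfsg.Agent.ThreeTrans (dperp lowImage Tau Theta commBlock commute_conj)

namespace Cfsg.Agent.FischerThm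

variable {G : Type*} [Group G] {D T : Set G} {a b x y g : G}

/-- The image of `T` in the group it generates modulo the centre. -/
def closedImage (T : Set G) : Set (Subgroup.closure T ⧸ Subgroup.center (Subgroup.closure T)) :=
  lowImage (Subgroup.closure T) T

open scoped Classical in
/-- The projection to the group generated by `T` modulo its centre, extended by `1`. -/
noncomputable def barOn (T : Set G) (g : G) :
    Subgroup.closure T ⧸ Subgroup.center (Subgroup.closure T) :=
  if h : g ∈ Subgroup.closure T then ((⟨g, h⟩ : Subgroup.closure T) :) else 1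

theorem barOn_coe (T : Set G) (u : Subgroup.closure T) :
    barOn T (u : G) = (u : Subgroup.closure T ⧸ Subgroup.center (Subgroup.closure T)) := by
  rw [barOn, dif_pos u.2]

theorem barOn_mk (T : Set G) (h : g ∈ Subgroup.closure T) :
    barOn T g = ((⟨g, h⟩ : Subgroup.closure T) :
      Subgroup.closure T ⧸ Subgroup.center (Subgroup.closure T)) :=
  barOn_coe T ⟨g, h⟩

theorem barOn_mul {u v : G} (hu : u ∈ Subgroup.closure T) (hv : v ∈ Subgroup.closure T) :
    barOn T (u * v) = barOn T u * barOn T v := by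
  rw [barOn_mk T hu, barOn_mk T hv, barOn_mk T (mul_mem hu hv), ← QuotientGroup.mk_mul]
  rfl

theorem barOn_conj {u v : G} (hu : u ∈ T) (hv : v ∈ T) :
    barOn T (u * v * u) = barOn T u * barOn T v * barOn T u := by
  have hu' := Subgroup.subset_closure hu
  have hv' := Subgroup.subset_closure hv
  rw [barOn_mul (mul_mem hu' hv') hu', barOn_mul hu' hv']

theorem barOn_mapsTo (hu : x ∈ T) : barOn T x ∈ closedImage T :=
  ⟨⟨x, Subgroup.subset_closure hu⟩, hu, (barOn_mk T _).symm⟩

theorem image_barOn (T : Set G) : barOn T '' T = closedImage T := by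
  apply Set.Subset.antisymm
  · rintro - ⟨u, hu, rfl⟩
    exact barOn_mapsTo hu
  · rintro - ⟨u, hu, rfl⟩
    exact ⟨u, hu, barOn_coe T u⟩

/-- `T` maps faithfully to `closedImage T`. -/
structure Faithful (T : Set G) : Prop where
  inj : Set.InjOn (barOn T) T
  comm : ∀ a ∈ T, ∀ b ∈ T, Commute (barOn T a) (barOn T b) ↔ Commute a b

theorem Faithful.bij (h : Faithful T) : Set.BijOn (barOn T) T (closedImage T) :=
  ⟨fun _ hx => barOn_mapsTo hx, h.inj, (image_barOn T).ge⟩

/-- `T` as a set in the group it generates. -/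
def inClosure (T : Set G) : Set (Subgroup.closure T) := {u | (u : G) ∈ T}

theorem closure_inClosure (T : Set G) : Subgroup.closure (inClosure T) = ⊤ := by
  refine Subgroup.map_injective (Subgroup.closure T).subtype_injective ?_
  rw [MonoidHom.map_closure, ← MonoidHom.range_eq_map, Subgroup.range_subtype]
  congr 1
  apply Set.Subset.antisymm
  · rintro - ⟨u, hu, rfl⟩
    exact hu
  · exact fun u hu => ⟨⟨u, Subgroup.subset_closure hu⟩, hu, rfl⟩

theorem conj_mem_closed (hT : IsThreeTranspositionSet T) (hc : ∀ u ∈ T, ∀ v ∈ T, u * v * u ∈ T)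
    (hg : g ∈ Subgroup.closure T) : ∀ v ∈ T, g * v * g⁻¹ ∈ T := by
  induction hg using Subgroup.closure_induction_left with
  | one => intro v hv; simpa using hv
  | mul_left u hu m _ ih =>
    intro v hv
    rw [show u * m * v * (u * m)⁻¹ = u * (m * v * m⁻¹) * u⁻¹ by group, ThreeTrans.inv_eq hT hu]
    exact hc u hu _ (ih v hv)
  | inv_mul_cancel u hu m _ ih =>
    intro v hv
    rw [ThreeTrans.inv_eq hT hu,
      show u * m * v * (u * m)⁻¹ = u * (m * v * m⁻¹) * u⁻¹ by group, ThreeTrans.inv_eq hT hu]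
    exact hc u hu _ (ih v hv)

theorem group_inClosure (hT : IsThreeTranspositionSet T) (hc : ∀ u ∈ T, ∀ v ∈ T, u * v * u ∈ T) :
    IsThreeTranspositionGroup (inClosure T) := by
  refine ⟨⟨fun u hu => ?_, fun u hu v hv => ?_⟩, fun k u hu => ?_, closure_inClosure T⟩
  · rw [← Subgroup.orderOf_coe]; exact hT.1 _ hu
  · rcases hT.2 _ hu _ hv with h | h
    · exact Or.inl (Subtype.ext (by simpa using h))
    · exact Or.inr (Subtype.ext (by simpa using h))
  · exact conj_mem_closed hT hc k.2 _ hu

theorem commute_inClosure {u v : Subgroup.closure T} : Commute u v ↔ Commute (u : G) v :=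
  ⟨fun h => congrArg Subtype.val h.eq, fun h => Subtype.ext h.eq⟩

/-- A noncommuting chain in `T` joins conjugates. -/
theorem exists_conj_of_chain (hT : IsThreeTranspositionSet T)
    (h : Relation.ReflTransGen (fun u v => (u ∈ T ∧ v ∈ T) ∧ ¬ Commute u v) a b) :
    ∃ g ∈ Subgroup.closure T, g * a * g⁻¹ = b := by
  induction h with
  | refl => exact ⟨1, one_mem _, by group⟩
  | @tail u v _ huv ih =>
    obtain ⟨g, hg, rfl⟩ := ih
    set u := g * a * g⁻¹
    refine ⟨u * v * g, mul_mem (mul_mem (Subgroup.subset_closure huv.1.1)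
      (Subgroup.subset_closure huv.1.2)) hg, ?_⟩
    rw [show u * v * g * a * (u * v * g)⁻¹ = u * v * u * v⁻¹ * u⁻¹ by
      simp only [u]; group]
    rw [ThreeTrans.braid hT huv.1.1 huv.1.2 huv.2, ThreeTrans.inv_eq hT huv.1.1,
      ThreeTrans.inv_eq hT huv.1.2]
    simp only [mul_assoc, ThreeTrans.mul_self_mul hT huv.1.2, ThreeTrans.mul_self hT huv.1.1,
      mul_one]

variable [Finite G]

/-- A closed set that is one class with central cores and connected commuting graph. -/
theorem closed_hyp_of_cores (hT : IsThreeTranspositionSet T)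
    (hc : ∀ u ∈ T, ∀ v ∈ T, u * v * u ∈ T) (htwo : ∃ a ∈ T, ∃ b ∈ T, a ≠ b)
    (hcls : ∀ a ∈ T, ∀ b ∈ T, ∃ g ∈ Subgroup.closure T, g * a * g⁻¹ = b)
    (h2 : pCore 2 (Subgroup.closure T) ≤ Subgroup.center (Subgroup.closure T))
    (h3 : pCore 3 (Subgroup.closure T) ≤ Subgroup.center (Subgroup.closure T))
    (hconn : ∀ a ∈ T, ∀ b ∈ T, b ∈ commBlock T a) :
    Hyp (closedImage T) ∧ Faithful T := by
  have hgrp := group_inClosure hT hc
  obtain ⟨a₀, ha₀, b₀, hb₀, hne₀⟩ := htwo
  set T' := inClosure T with hT'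
  have hD : IsThreeTranspositionClass T' := by
    refine ⟨hgrp.1, ⟨⟨a₀, Subgroup.subset_closure ha₀⟩, ha₀, ?_⟩, hgrp.2.2⟩
    apply Set.Subset.antisymm
    · intro u hu
      obtain ⟨g, hg, hgu⟩ := hcls a₀ ha₀ u hu
      exact isConj_iff.2 ⟨⟨g, hg⟩, Subtype.ext (by simpa using hgu)⟩
    · intro u hu
      obtain ⟨g, rfl⟩ := isConj_iff.1 hu
      exact hgrp.2.1 g _ ha₀
  have hD2 : ∃ a ∈ T', ∃ b ∈ T', a ≠ b :=
    ⟨⟨a₀, Subgroup.subset_closure ha₀⟩, ha₀, ⟨b₀, Subgroup.subset_closure hb₀⟩, hb₀,
      fun h => hne₀ (congrArg Subtype.val h)⟩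
  have hconn' : ∀ a ∈ T', ∀ b ∈ T', b ∈ commBlock T' a := by
    have key : ∀ a b : G, b ∈ commBlock T a → ∀ (ha : a ∈ Subgroup.closure T)
        (hb : b ∈ Subgroup.closure T), (⟨b, hb⟩ : Subgroup.closure T) ∈ commBlock T' ⟨a, ha⟩ := by
      intro a b h
      induction h with
      | refl => exact fun _ _ => ThreeTrans.mem_commBlock_self _
      | @tail u v _ huv ih =>
        intro ha hb
        exact (ih ha (Subgroup.subset_closure huv.1.1)).tail
          ⟨⟨huv.1.1, huv.1.2⟩, commute_inClosure.2 huv.2⟩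
    exact fun a ha b hb => key a b (hconn a ha b hb) a.2 b.2
  obtain ⟨hH, hinj, hcom⟩ := hyp_of_cores hD hD2 h2 h3 hconn'
  refine ⟨hH, ⟨fun u hu v hv h => ?_, fun u hu v hv => ⟨fun h => ?_, fun h => ?_⟩⟩⟩
  · rw [barOn_mk T (Subgroup.subset_closure hu), barOn_mk T (Subgroup.subset_closure hv)] at h
    exact congrArg Subtype.val (hinj hu hv h)
  · rw [barOn_mk T (Subgroup.subset_closure hu), barOn_mk T (Subgroup.subset_closure hv)] at h
    exact commute_inClosure.1 (hcom _ hu _ hv h)
  · rw [barOn_mk T (Subgroup.subset_closure hu), barOn_mk T (Subgroup.subset_closure hv)]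
    exact (show Commute (⟨u, Subgroup.subset_closure hu⟩ : Subgroup.closure T)
      ⟨v, Subgroup.subset_closure hv⟩ from Subtype.ext h.eq).map (QuotientGroup.mk' _)

/-- A closed set with connected commuting and noncommuting graphs and without twins of either
kind. -/
theorem hyp_closed (hT : IsThreeTranspositionSet T)
    (hc : ∀ u ∈ T, ∀ v ∈ T, u * v * u ∈ T) (htwo : ∃ a ∈ T, ∃ b ∈ T, a ≠ b)
    (hnc : ∀ a ∈ T, ∀ b ∈ T,
      Relation.ReflTransGen (fun u v => (u ∈ T ∧ v ∈ T) ∧ ¬ Commute u v) a b)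
    (hconn : ∀ a ∈ T, ∀ b ∈ T, b ∈ commBlock T a)
    (ht : ∀ a ∈ T, ∀ b ∈ T, Tau T a b → a = b)
    (hθ : ∀ a ∈ T, ∀ b ∈ T, Theta T a b → a = b) :
    Hyp (closedImage T) ∧ Faithful T := by
  obtain ⟨h2, h3⟩ := cores_of_noTwins (group_inClosure hT hc) (fun u hu v hv h =>
    Subtype.ext (ht _ hu _ hv fun e he => by
      have := h ⟨e, Subgroup.subset_closure he⟩ he
      rwa [commute_inClosure, commute_inClosure] at this))
    (fun u hu v hv h => Subtype.ext (hθ _ hu _ hv fun e he => by
      have := h ⟨e, Subgroup.subset_closure he⟩ he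
      rwa [commute_inClosure, commute_inClosure, ne_eq, ne_eq, Subtype.ext_iff,
        Subtype.ext_iff] at this))
  exact closed_hyp_of_cores hT hc htwo
    (fun a ha b hb => exists_conj_of_chain hT (hnc a ha b hb)) h2 h3 hconn

end Cfsg.Agent.FischerThm
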