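import Cfsg.Agent.FischerThm.Defs
import Cfsg.Agent.ThreeTrans.Primitive
import Cfsg.Agent.ThreeTrans.RankThree

/-!
# The hypothesis of the induction: consequences and a criterion

A class with central 2-core and 3-core and connected commuting graph satisfies the hypothesis in
the quotient by the centre.
-/

set_option autoImplicit false

open Cfsg
open scoped commutatorElement
open Cfsg.Agent.ThreeTrans (dperp Tau Theta mul_self inv_eq class_conj class_isConj commute_conj
  commBlock)

namespace Cfsg.Agent.FischerThm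

variable {G : Type*} [Group G] {D : Set G} {a b c d x y : G}

theorem isConj_self (g : G) : {h : G | IsConj g h} = conjugatesOf g := rfl

namespace Hyp

theorem set (S : Hyp D) : IsThreeTranspositionSet D := S.cls.1

theorem group (S : Hyp D) : IsThreeTranspositionGroup D := ThreeTrans.class_toGroup S.cls

theorem conj_mem (S : Hyp D) (g : G) (hd : d ∈ D) : g * d * g⁻¹ ∈ D := class_conj S.cls g d hd

theorem mem_conj (S : Hyp D) (hd : d ∈ D) (he : x ∈ D) : d * x * d ∈ D :=
  ThreeTrans.conj_mem S.set (class_conj S.cls) hd he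

theorem nonempty (S : Hyp D) : D.Nonempty := by
  obtain ⟨d, hd, -⟩ := S.cls.2.1
  exact ⟨d, hd⟩

theorem not_solvable (S : Hyp D) : ¬ Group.IsSolvable G := by
  intro h
  obtain ⟨d, hd⟩ := S.nonempty
  have h1 : (⊤ : Subgroup G) = ⊥ :=
    S.sol ⊤ inferInstance inferInstance
  have h2 : d = 1 := Subgroup.mem_bot.1 (h1 ▸ Subgroup.mem_top d)
  exact ThreeTrans.ne_one S.set hd h2

theorem center_eq_bot (S : Hyp D) : Subgroup.center G = ⊥ :=
  S.sol _ inferInstance (Group.isSolvable_of_comm fun a b => mul_comm' a b)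

theorem two_members (S : Hyp D) : ∃ a ∈ D, ∃ b ∈ D, a ≠ b := by
  obtain ⟨d, hd⟩ := S.nonempty
  by_contra hcon
  push Not at hcon
  have hall : ∀ e ∈ D, Commute d e := fun e he => by rw [hcon d hd e he]
  have hz : d ∈ Subgroup.center G := ThreeTrans.mem_center_of_commute S.cls.2.2 hall
  rw [S.center_eq_bot, Subgroup.mem_bot] at hz
  exact ThreeTrans.ne_one S.set hd hz

theorem exists_not_commute (S : Hyp D) (hd : d ∈ D) : ∃ e ∈ D, ¬ Commute d e :=
  ThreeTrans.exists_not_commute S.cls S.two_members hd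

section Finite

variable [Finite G]

theorem pCore_bot (S : Hyp D) (p : ℕ) [Fact p.Prime] : pCore p G = ⊥ := by
  refine S.sol _ inferInstance ?_
  have := (Core.pCore_isPGroup (p := p) (G := G)).isNilpotent
  infer_instance

theorem core2 (S : Hyp D) : pCore 2 G ≤ Subgroup.center G := by
  have : Fact (Nat.Prime 2) := ⟨Nat.prime_two⟩
  rw [S.pCore_bot 2]; exact bot_le

theorem core3 (S : Hyp D) : pCore 3 G ≤ Subgroup.center G := by
  have : Fact (Nat.Prime 3) := ⟨Nat.prime_three⟩
  rw [S.pCore_bot 3]; exact bot_le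

theorem sol' (S : Hyp D) :
    ∀ N : Subgroup G, N.Normal → N ≤ commutator G → Group.IsSolvable N → N = ⊥ :=
  fun N hN _ hs => S.sol N hN hs

theorem eq_of_tau (S : Hyp D) (hx : x ∈ D) (hy : y ∈ D) (h : Tau D x y) : x = y :=
  ThreeTrans.eq_of_tau_central S.cls S.two_members S.core2 hx hy h

theorem eq_of_theta (S : Hyp D) (hx : x ∈ D) (hy : y ∈ D) (h : Theta D x y) : x = y :=
  ThreeTrans.eq_of_theta_central S.cls S.two_members S.core3 hx hy h

/-- The centraliser of `a` is transitive on the other members commuting with it. -/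
theorem exists_conj_dperp (S : Hyp D) (ha : a ∈ D) (hb : b ∈ dperp D a) (hc : c ∈ dperp D a) :
    ∃ g : G, Commute g a ∧ g * b * g⁻¹ = c :=
  ThreeTrans.exists_commute_conj_dperp S.sol' S.perf S.cls ha hb hc

/-- The centraliser of `a` is transitive on the members not commuting with it. -/
theorem exists_conj_aside (S : Hyp D) (ha : a ∈ D) (hb : b ∈ aside D a) (hc : c ∈ aside D a) :
    ∃ g : G, Commute g a ∧ g * b * g⁻¹ = c :=
  ThreeTrans.exists_commute_conj_not_commute S.sol' S.perf S.cls ha hb.1 hc.1 hb.2 hc.2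

/-- Any noncommuting pair goes to any other. -/
theorem exists_conj_pair (S : Hyp D) {u w : G} (hu : u ∈ D) (hw : w ∈ aside D u) (hx : x ∈ D)
    (hy : y ∈ aside D x) : ∃ g : G, g * u * g⁻¹ = x ∧ g * w * g⁻¹ = y := by
  obtain ⟨g, hg⟩ := class_isConj S.cls hu hx
  have h1 : g * w * g⁻¹ ∈ aside D x :=
    ⟨S.conj_mem g hw.1, hg ▸ fun h => hw.2 ((commute_conj g u w).1 h)⟩
  obtain ⟨k, hk, hky⟩ := S.exists_conj_aside hx h1 hy
  refine ⟨k * g, ?_, ?_⟩
  · rw [show k * g * u * (k * g)⁻¹ = k * (g * u * g⁻¹) * k⁻¹ by group, hg, hk.eq,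
      mul_inv_cancel_right]
  · rw [← hky]; group

/-- A member has a partner commuting with it. -/
theorem exists_dperp (S : Hyp D) (hd : d ∈ D) : (dperp D d).Nonempty := by
  obtain ⟨e, he, hde⟩ := S.exists_not_commute hd
  obtain ⟨z, hz, -⟩ :=
    ThreeTrans.exists_common S.sol' S.perf S.cls hd he hde
  exact ⟨z, hz⟩

theorem width (S : Hyp D) : ∃ a ∈ D, ∃ b ∈ D, a ≠ b ∧ Commute a b := by
  obtain ⟨d, hd⟩ := S.nonempty
  obtain ⟨e, he⟩ := S.exists_dperp hd
  exact ⟨d, hd, e, he.1, Ne.symm he.2.1, he.2.2⟩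

theorem connected (S : Hyp D) : ∀ a ∈ D, ∀ b ∈ D, b ∈ commBlock D a := by
  intro a ha b hb
  have := ThreeTrans.commute_closed_eq S.cls S.perf (S := commBlock D a)
    (fun z hz => by
      induction hz with
      | refl => exact ha
      | tail _ h _ => exact h.1.2)
    ⟨a, ThreeTrans.mem_commBlock_self a⟩
    (fun s hs e he hse => Relation.ReflTransGen.tail hs ⟨⟨by
      induction hs with
      | refl => exact ha
      | tail _ h _ => exact h.1.2, he⟩, hse⟩)
  rw [this]; exact hb

theorem primitive (S : Hyp D) : IsPrimitiveUnderConj D := by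
  obtain ⟨L, hLn, hL, -, -⟩ :=
    ThreeTrans.exists_quasisimple S.cls S.two_members S.core2 S.core3
  exact ThreeTrans.primitive S.cls S.two_members S.core2 S.core3 hL
    (ThreeTrans.index_le_two S.cls S.two_members S.core2 S.core3 hL
      ((ThreeTrans.connected_iff_commBlock S.nonempty).2 S.connected))

end Finite

end Hyp

variable [Finite G]

/-- A class with central 2-core and 3-core and connected commuting graph gives the hypothesis
modulo the centre; the projection is injective on it and keeps commutation exactly. -/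
theorem hyp_of_cores (hD : IsThreeTranspositionClass D) (hD2 : ∃ a ∈ D, ∃ b ∈ D, a ≠ b)
    (h2 : pCore 2 G ≤ Subgroup.center G) (h3 : pCore 3 G ≤ Subgroup.center G)
    (hconn : ∀ a ∈ D, ∀ b ∈ D, b ∈ commBlock D a) :
    Hyp ((QuotientGroup.mk' (Subgroup.center G)) '' D) ∧
      Set.InjOn (QuotientGroup.mk' (Subgroup.center G)) D ∧
      ∀ a ∈ D, ∀ b ∈ D, Commute (QuotientGroup.mk' (Subgroup.center G) a)
        (QuotientGroup.mk' (Subgroup.center G) b) → Commute a b := by
  obtain ⟨L, hLn, hL, -, -⟩ := ThreeTrans.exists_quasisimple hD hD2 h2 h3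
  have hne : D.Nonempty := let ⟨a, ha, _⟩ := hD2; ⟨a, ha⟩
  have hidx := ThreeTrans.index_le_two hD hD2 h2 h3 hL
    ((ThreeTrans.connected_iff_commBlock hne).2 hconn)
  obtain ⟨hcls, hperf, hsol⟩ := ThreeTrans.quotient_hyps hD hD2 h2 h3 hL hidx
  set π := QuotientGroup.mk' (Subgroup.center G) with hπ
  have heq : ∀ {u v : G}, u ∈ D → v ∈ D → π u = π v → u = v := fun hu hv h =>
    ThreeTrans.eq_of_map hD hD2 h2 h3 hπ hu hv h
  have hcom : ∀ u ∈ D, ∀ v ∈ D, Commute (π u) (π v) → Commute u v := fun u hu v hv h =>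
    ThreeTrans.commute_of_map hD hD2 h2 h3 hπ hu hv h
  refine ⟨⟨hcls, fun N hN hs => ?_, hperf⟩, fun u hu v hv h => heq hu hv h, hcom⟩
  have h1 : N ⊓ commutator (G ⧸ Subgroup.center G) = ⊥ :=
    hsol _ inferInstance inf_le_right (Core.isSolvable_mono hs inf_le_left)
  rw [eq_bot_iff]
  intro q hq
  obtain ⟨g, rfl⟩ := QuotientGroup.mk'_surjective (Subgroup.center G) q
  rw [Subgroup.mem_bot]
  refine (QuotientGroup.eq_one_iff g).2 (ThreeTrans.mem_center_of_commute hD.2.2 fun e he => ?_)
  have h2' : ⁅π g, π e⁆ ∈ N ⊓ commutator (G ⧸ Subgroup.center G) := by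
    refine Subgroup.mem_inf.2
      ⟨?_, Subgroup.commutator_mem_commutator (Subgroup.mem_top _) (Subgroup.mem_top _)⟩
    have h := N.mul_mem hq (hN.conj_mem _ (N.inv_mem hq) (π e))
    rw [commutatorElement_def]
    simp only [hπ, mul_assoc] at h ⊢
    exact h
  rw [h1, Subgroup.mem_bot, ← map_commutatorElement, commutatorElement_def, map_mul,
    map_inv, mul_inv_eq_one] at h2'
  have h4 := heq (class_conj hD g e he) he h2'
  exact mul_inv_eq_iff_eq_mul.1 h4

/-- The commutation hypotheses give central cores. -/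
theorem cores_of_noTwins (hD : IsThreeTranspositionGroup D)
    (ht : ∀ x ∈ D, ∀ y ∈ D, Tau D x y → x = y) (hθ : ∀ x ∈ D, ∀ y ∈ D, Theta D x y → x = y) :
    pCore 2 G ≤ Subgroup.center G ∧ pCore 3 G ≤ Subgroup.center G :=
  ⟨ThreeTrans.pCore_two_le_center_of_tau hD ht, ThreeTrans.pCore_three_le_center_of_theta hD hθ⟩

end Cfsg.Agent.FischerThm
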