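import Cfsg.Agent.FischerThm.Local.Chart
import Cfsg.Agent.ThreeTrans.SmallPerm

/-!
# Lines through a member, counting, recognition

`nbr d c b` is the member, not commuting with `d`, that commutes with `c` and belongs to the partner
`b` of `d` that moves `c`. A bijection between two classes that keeps conjugation comes from an
isomorphism.
-/

set_option autoImplicit false

open Cfsg
open Cfsg.Agent.ThreeTrans (dperp lowImage commute_conj braid mul_self mul_self_mul mul_mul_self)

namespace Cfsg.Agent.FischerThm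

variable {G : Type*} [Group G] {D : Set G} {b b' c c' d x y g : G}

/-- The member belonging to `b` among those commuting with `c` and not with `d`. -/
def nbr (d c b : G) : G := d * (b * c * b) * d

theorem common_swap (D : Set G) (d c : G) : common D d c = common D c d := Set.inter_comm _ _

theorem mem_dperp_swap (hd : d ∈ D) (hx : x ∈ dperp D d) : d ∈ dperp D x :=
  ⟨hd, Ne.symm hx.2.1, hx.2.2.symm⟩

theorem flip_mem_aside (hD : IsThreeTranspositionGroup D) (hd : d ∈ D) (hc : c ∈ aside D d) :
    d * c * d ∈ aside D d := by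
  refine ⟨ThreeTrans.conj_mem hD.1 hD.2.1 hd hc.1, ?_⟩
  rw [braid hD.1 hd hc.1 hc.2]
  exact ThreeTrans.commute_conj_mem hD.1 hd hc.1 hc.2

/-- The common partners depend only on the line. -/
theorem common_flip (hD : IsThreeTranspositionGroup D) (hd : d ∈ D) (hc : c ∈ aside D d) :
    common D d (d * c * d) = common D d c := by
  have one : ∀ e ∈ aside D d, common D d e ⊆ common D d (d * e * d) := fun e he x hx =>
    ⟨hx.1, hx.1.1, fun h => (flip_mem_aside hD hd he).2 (h ▸ hx.1.2.2),
      (hx.1.2.2.symm.mul_right hx.2.2.2.symm).mul_right hx.1.2.2.symm |>.symm⟩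
  refine Set.Subset.antisymm ?_ (one c hc)
  have h := one _ (flip_mem_aside hD hd hc)
  rwa [show d * (d * c * d) * d = c by
    simp only [mul_assoc, mul_self hD.1 hd, mul_one, mul_self_mul hD.1 hd]] at h

/-- A partner of `d` outside the common partners does not commute with `c`. -/
theorem not_commute_of_notMem (hc : c ∈ aside D d) (hb : b ∈ dperp D d)
    (h : b ∉ common D d c) : ¬ Commute b c := fun hcm =>
  h ⟨hb, hb.1, fun e => hc.2 (e ▸ hb.2.2), hcm.symm⟩

theorem conj_mem_aside (hD : IsThreeTranspositionGroup D) (hb : b ∈ dperp D d)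
    (hc : c ∈ aside D d) : b * c * b ∈ aside D d := by
  refine ⟨ThreeTrans.conj_mem hD.1 hD.2.1 hb.1 hc.1, fun h => hc.2 ?_⟩
  have h1 := (hb.2.2.mul_right h).mul_right hb.2.2
  rwa [show b * (b * c * b) * b = c by
    simp only [mul_assoc, mul_self hD.1 hb.1, mul_one, mul_self_mul hD.1 hb.1]] at h1

theorem nbr_spec (hD : IsThreeTranspositionGroup D) (hd : d ∈ D) (hc : c ∈ aside D d)
    (hb : b ∈ dperp D d) (hbc : ¬ Commute b c) :
    nbr d c b ∈ aside D d ∧ Commute c (nbr d c b) := by
  refine ⟨flip_mem_aside hD hd (conj_mem_aside hD hb hc), ?_⟩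
  let φ := ThreeTrans.SmallPerm.hom (mul_self hD.1 hd) (mul_self hD.1 hc.1) (mul_self hD.1 hb.1)
    (braid hD.1 hd hc.1 hc.2).symm hb.2.2.symm.eq (braid hD.1 hb.1 hc.1 hbc)
  have h : ThreeTrans.SmallPerm.s4 1 *
      (ThreeTrans.SmallPerm.s4 0 * (ThreeTrans.SmallPerm.s4 2 * ThreeTrans.SmallPerm.s4 1 *
        ThreeTrans.SmallPerm.s4 2) * ThreeTrans.SmallPerm.s4 0) =
      (ThreeTrans.SmallPerm.s4 0 * (ThreeTrans.SmallPerm.s4 2 * ThreeTrans.SmallPerm.s4 1 *
        ThreeTrans.SmallPerm.s4 2) * ThreeTrans.SmallPerm.s4 0) * ThreeTrans.SmallPerm.s4 1 := by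
    decide +kernel
  have h1 := congrArg φ h
  simp only [map_mul, φ, ThreeTrans.SmallPerm.hom_gen] at h1
  exact h1

/-- Every member commuting with `c` and not with `d` is of this kind. -/
theorem exists_nbr (hD : IsThreeTranspositionGroup D) (hd : d ∈ D) (hc : c ∈ aside D d)
    (hc' : c' ∈ aside D d) (hne : c' ≠ c) (h : Commute c c') :
    ∃ b ∈ dperp D d, ¬ Commute b c ∧ c' = nbr d c b := by
  let φ := ThreeTrans.SmallPerm.hom (mul_self hD.1 hc.1) (mul_self hD.1 hd) (mul_self hD.1 hc'.1)
    (braid hD.1 hd hc.1 hc.2) h.symm.eq (braid hD.1 hc'.1 hd fun hh => hc'.2 hh.symm)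
  let s := ThreeTrans.SmallPerm.s4
  have hid : s 1 * (s 0 * s 2 * s 1 * s 2 * s 0 * s 0 * (s 0 * s 2 * s 1 * s 2 * s 0)) * s 1 =
      s 2 := by decide +kernel
  have hcm : s 1 * (s 0 * s 2 * s 1 * s 2 * s 0) = s 0 * s 2 * s 1 * s 2 * s 0 * s 1 := by
    decide +kernel
  have h1 := congrArg φ hid
  have h2 := congrArg φ hcm
  simp only [map_mul, φ, s, ThreeTrans.SmallPerm.hom_gen] at h1 h2
  have hbD : c * c' * d * c' * c ∈ D := by
    have := ThreeTrans.conj_mem hD.1 hD.2.1 hc.1 (ThreeTrans.conj_mem hD.1 hD.2.1 hc'.1 hd)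
    simpa only [mul_assoc] using this
  set b := c * c' * d * c' * c
  have h1' : c' = d * (b * c * b) * d := h1.symm
  have hbd : b ≠ d := fun hh => hne (by
    rw [h1', hh]
    simp only [mul_assoc, mul_self hD.1 hd, mul_one, mul_self_mul hD.1 hd])
  refine ⟨b, ⟨hbD, hbd, h2⟩, fun hbc => ?_, h1'⟩
  rw [hbc.eq, mul_assoc c, mul_self hD.1 hbD, mul_one, braid hD.1 hd hc.1 hc.2] at h1'
  exact ThreeTrans.commute_conj_mem hD.1 hc.1 hd (fun hh => hc.2 hh.symm) (by
    rw [braid hD.1 hd hc.1 hc.2, ← h1']
    exact h)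

theorem nbr_inj (hD : IsThreeTranspositionGroup D) (hd : d ∈ D) (hc : c ∈ D) (hb : b ∈ D)
    (hb' : b' ∈ D) (hbc : ¬ Commute b c) (hbc' : ¬ Commute b' c)
    (h : nbr d c b = nbr d c b') : b = b' := by
  have h1 := mul_left_cancel (mul_right_cancel h)
  rw [braid hD.1 hb hc hbc, braid hD.1 hb' hc hbc'] at h1
  exact mul_left_cancel (mul_right_cancel h1)

theorem nbr_commute_iff (hD : IsThreeTranspositionGroup D) (hd : d ∈ D) (hc : c ∈ D) (hb : b ∈ D)
    (hb' : b' ∈ D) (hbc : ¬ Commute b c) (hbc' : ¬ Commute b' c) :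
    Commute (nbr d c b) (nbr d c b') ↔ Commute b b' := by
  rw [nbr, nbr, ThreeTrans.conj_involution hD.1 hd, ThreeTrans.conj_involution hD.1 hd,
    commute_conj, braid hD.1 hb hc hbc, braid hD.1 hb' hc hbc', ThreeTrans.conj_involution hD.1 hc,
    ThreeTrans.conj_involution hD.1 hc, commute_conj]

/-- The common partners at a moved line are moved. -/
theorem mem_common_conj (hD : IsThreeTranspositionGroup D) (hb : b ∈ dperp D d) :
    x ∈ common D d (b * c * b) ↔ b * x * b ∈ common D d c := by
  have key : ∀ p y : G, y ∈ dperp D p → b * y * b ∈ dperp D (b * p * b) := fun p y hy => by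
    rw [ThreeTrans.conj_involution hD.1 hb.1, ThreeTrans.conj_involution hD.1 hb.1]
    exact ThreeTrans.dperp_conj hD.2.1 b hy
  have hback : ∀ y, b * (b * y * b) * b = y := fun y => by
    simp only [mul_assoc, mul_self hD.1 hb.1, mul_one, mul_self_mul hD.1 hb.1]
  have hfix : b * d * b = d := ThreeTrans.conj_self_of_commute hD.1 hb.1 hb.2.2.symm
  constructor
  · rintro ⟨h1, h2⟩
    have h1' := key _ _ h1
    have h2' := key _ _ h2
    rw [hfix] at h1'
    rw [hback] at h2'
    exact ⟨h1', h2'⟩
  · rintro ⟨h1, h2⟩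
    have h1' := key _ _ h1
    have h2' := key _ _ h2
    rw [hback] at h1' h2'
    rw [hfix] at h1'
    exact ⟨h1', h2'⟩

/-- The common partners of a line and a moved one are those commuting with the mover. -/
theorem mem_common_both (hD : IsThreeTranspositionGroup D) (hb : b ∈ dperp D d) (hc : c ∈ aside D d)
    (hbc : ¬ Commute b c) :
    x ∈ common D d c ∧ x ∈ common D d (b * c * b) ↔ x ∈ common D d c ∧ Commute x b := by
  refine and_congr_right fun hx => ⟨fun h => ?_, fun h => ?_⟩
  · have h1 : Commute x (c * b * c) := by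
      rw [← braid hD.1 hb.1 hc.1 hbc]; exact h.2.2.2.symm
    have h2 := (hx.2.2.2.symm.mul_right h1).mul_right hx.2.2.2.symm
    rwa [show c * (c * b * c) * c = b by
      simp only [mul_assoc, mul_self hD.1 hc.1, mul_one, mul_self_mul hD.1 hc.1]] at h2
  · rw [mem_common_conj hD hb, ThreeTrans.conj_self_of_commute hD.1 hb.1 h.symm]
    exact hx

/-- The members: `d`, its partners and the rest. -/
theorem ncard_members [Finite G] (hd : d ∈ D) :
    D.ncard = 1 + (dperp D d).ncard + (aside D d).ncard := by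
  have h : D = insert d (dperp D d ∪ aside D d) := by
    apply Set.Subset.antisymm
    · intro e he
      by_cases hde : Commute d e
      · rcases eq_or_ne e d with rfl | hne
        · exact Set.mem_insert _ _
        · exact Or.inr (Or.inl ⟨he, hne, hde⟩)
      · exact Or.inr (Or.inr ⟨he, hde⟩)
    · rintro e (rfl | he | he)
      exacts [hd, he.1, he.1]
  conv_lhs => rw [h]
  rw [Set.ncard_insert_of_notMem, Set.ncard_union_eq]
  · omega
  · exact Set.disjoint_left.2 fun e he he' => he'.2 he.2.2
  · rintro (h | h)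
    exacts [h.2.1 rfl, h.2 (Commute.refl d)]

/-- Counting the commuting pairs of a partner and a non-partner of `d`. -/
theorem Hyp.count [Finite G] (H : Hyp D) (hd : d ∈ D) (hc : c ∈ aside D d) (hx : x ∈ dperp D d) :
    (aside D d).ncard * (common D d c).ncard +
      (dperp D d).ncard * ((dperp D d ∩ dperp D x).ncard + 1) =
        (dperp D d).ncard * (dperp D d).ncard := by
  classical
  set A := (Set.toFinite (aside D d)).toFinset
  set P := (Set.toFinite (dperp D d)).toFinset
  have himg : ∀ (g : G) (u : G), (fun z => g * z * g⁻¹) '' dperp D u = dperp D (g * u * g⁻¹) :=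
    fun g u => (bijOn_conj_dperp H.group.2.1 g u).image_eq
  have hinj : ∀ g : G, Function.Injective (fun z : G => g * z * g⁻¹) := fun g u v h =>
    mul_left_cancel (mul_right_cancel h)
  -- each non-partner sees the same number
  have hμ : ∀ e ∈ A, (P.filter fun u => Commute u e).card = (common D d c).ncard := by
    intro e he
    rw [Set.Finite.mem_toFinset] at he
    obtain ⟨g, hg, rfl⟩ := H.exists_conj_aside hd hc he
    have hgd : g * d * g⁻¹ = d := by rw [hg.eq, mul_inv_cancel_right]
    have h : common D d (g * c * g⁻¹) = (fun z => g * z * g⁻¹) '' common D d c := by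
      conv_lhs => rw [common, ← hgd]
      rw [common, Set.image_inter (hinj g), himg, himg]
    rw [← Set.ncard_image_of_injective _ (hinj g), ← h, ← Set.ncard_coe_finset]
    congr 1
    apply Set.Subset.antisymm
    · intro u hu
      rw [Finset.mem_coe, Finset.mem_filter, Set.Finite.mem_toFinset] at hu
      exact ⟨hu.1, hu.1.1, fun h' => he.2 (h' ▸ hu.1.2.2), hu.2.symm⟩
    · intro u hu
      rw [Finset.mem_coe, Finset.mem_filter, Set.Finite.mem_toFinset]
      exact ⟨hu.1, hu.2.2.2.symm⟩
  -- each partner sees the same number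
  have hk : ∀ u ∈ P, (A.filter fun e => Commute u e).card +
      ((dperp D d ∩ dperp D x).ncard + 1) = (dperp D d).ncard := by
    intro u hu
    rw [Set.Finite.mem_toFinset] at hu
    obtain ⟨g, hg, rfl⟩ := H.exists_conj_dperp hd hx hu
    have hgd : g * d * g⁻¹ = d := by rw [hg.eq, mul_inv_cancel_right]
    obtain ⟨k, hk⟩ := ThreeTrans.class_isConj H.cls hd hu.1
    have hdeg : (dperp D (g * x * g⁻¹)).ncard = (dperp D d).ncard := by
      rw [← hk, ← himg, Set.ncard_image_of_injective _ (hinj k)]
    have hlam : (dperp D d ∩ dperp D (g * x * g⁻¹)).ncard = (dperp D d ∩ dperp D x).ncard := by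
      conv_lhs => rw [← hgd, ← himg, ← himg, ← Set.image_inter (hinj g),
        Set.ncard_image_of_injective _ (hinj g)]
    rw [← hdeg, ← hlam]
    set u := g * x * g⁻¹
    have hsplit : dperp D u =
        ↑(A.filter fun e => Commute u e) ∪ insert d (dperp D d ∩ dperp D u) := by
      apply Set.Subset.antisymm
      · intro e he
        by_cases hde : Commute d e
        · rcases eq_or_ne e d with rfl | hne
          · exact Or.inr (Set.mem_insert _ _)
          · exact Or.inr (Or.inr ⟨⟨he.1, hne, hde⟩, he⟩)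
        · left
          rw [Finset.mem_coe, Finset.mem_filter, Set.Finite.mem_toFinset]
          exact ⟨⟨he.1, hde⟩, he.2.2⟩
      · rintro e (he | rfl | he)
        · rw [Finset.mem_coe, Finset.mem_filter, Set.Finite.mem_toFinset] at he
          exact ⟨he.1.1, fun h' => he.1.2 (h' ▸ hu.2.2), he.2⟩
        · exact mem_dperp_swap hd hu
        · exact he.2
    conv_rhs => rw [hsplit]
    rw [Set.ncard_union_eq, Set.ncard_coe_finset, Set.ncard_insert_of_notMem]
    · exact fun h' => h'.1.2.1 rfl
    · refine Set.disjoint_left.2 fun e he he' => ?_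
      rw [Finset.mem_coe, Finset.mem_filter, Set.Finite.mem_toFinset] at he
      rcases he' with rfl | he'
      exacts [he.1.2 (Commute.refl _), he.1.2 he'.1.2.2]
  have hdc := Finset.sum_card_bipartiteAbove_eq_sum_card_bipartiteBelow
    (fun u e : G => Commute u e) (s := P) (t := A)
  have h1 : ∑ e ∈ A, (P.filter fun u => Commute u e).card =
      (aside D d).ncard * (common D d c).ncard := by
    rw [Finset.sum_congr rfl hμ, Finset.sum_const, smul_eq_mul,
      ← Set.ncard_eq_toFinset_card _ (Set.toFinite (aside D d))]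
  have h2 : ∑ u ∈ P, ((A.filter fun e => Commute u e).card +
      ((dperp D d ∩ dperp D x).ncard + 1)) = (dperp D d).ncard * (dperp D d).ncard := by
    rw [Finset.sum_congr rfl hk, Finset.sum_const, smul_eq_mul,
      ← Set.ncard_eq_toFinset_card _ (Set.toFinite (dperp D d))]
  rw [Finset.sum_add_distrib, Finset.sum_const, smul_eq_mul,
    ← Set.ncard_eq_toFinset_card _ (Set.toFinite (dperp D d))] at h2
  rw [← h2, ← h1]
  congr 1
  exact hdc.symm

end Cfsg.Agent.FischerThm
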