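import Cfsg.Agent.FischerThm.Local.Hyp

/-!
# Groups generated by a set of involutions and their images

A surjection that is injective on a conjugation closed generating set has central kernel, identifies
the quotients by the centres and preserves centrality of the 2-core and the 3-core.
-/

set_option autoImplicit false

open Cfsg

namespace Cfsg.Agent.FischerThm

variable {A B : Type*} [Group A] [Group B] {T : Set A} {f : A →* B}

/-- The preimage of the centre is the centre. -/
theorem mem_center_iff_map (hgen : Subgroup.closure T = ⊤) (hconj : ∀ g : A, ∀ t ∈ T, g * t * g⁻¹ ∈ T)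
    (hf : Function.Surjective f) (hinj : Set.InjOn f T) {g : A} :
    f g ∈ Subgroup.center B ↔ g ∈ Subgroup.center A := by
  constructor
  · intro h
    refine ThreeTrans.mem_center_of_commute hgen fun t ht => ?_
    have h1 : f (g * t * g⁻¹) = f t := by
      rw [map_mul, map_mul, map_inv, ← Subgroup.mem_center_iff.1 h (f t), mul_inv_cancel_right]
    exact mul_inv_eq_iff_eq_mul.1 (hinj (hconj g t ht) ht h1)
  · intro h
    rw [Subgroup.mem_center_iff]
    intro b
    obtain ⟨a, rfl⟩ := hf b
    rw [← map_mul, ← map_mul, Subgroup.mem_center_iff.1 h a]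

theorem ker_le_center (hgen : Subgroup.closure T = ⊤) (hconj : ∀ g : A, ∀ t ∈ T, g * t * g⁻¹ ∈ T)
    (hf : Function.Surjective f) (hinj : Set.InjOn f T) : f.ker ≤ Subgroup.center A := fun g hg =>
  (mem_center_iff_map hgen hconj hf hinj).1 (by
    rw [MonoidHom.mem_ker] at hg
    rw [hg]; exact one_mem _)

/-- The quotients by the centres are isomorphic, the images of any set corresponding. -/
theorem exists_quot_iso (hgen : Subgroup.closure T = ⊤)
    (hconj : ∀ g : A, ∀ t ∈ T, g * t * g⁻¹ ∈ T) (hf : Function.Surjective f)
    (hinj : Set.InjOn f T) :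
    ∃ e : A ⧸ Subgroup.center A ≃* B ⧸ Subgroup.center B,
      ∀ a : A, e (a : A ⧸ Subgroup.center A) = (f a : B ⧸ Subgroup.center B) := by
  set φ : A →* B ⧸ Subgroup.center B := (QuotientGroup.mk' _).comp f
  have hφ : Function.Surjective φ := (QuotientGroup.mk'_surjective _).comp hf
  have hker : φ.ker = Subgroup.center A := by
    ext g
    rw [MonoidHom.mem_ker]
    show ((f g : B) : B ⧸ Subgroup.center B) = 1 ↔ _
    rw [QuotientGroup.eq_one_iff, mem_center_iff_map hgen hconj hf hinj]
  exact ⟨(QuotientGroup.quotientMulEquivOfEq hker.symm).trans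
    (QuotientGroup.quotientKerEquivOfSurjective φ hφ), fun a => rfl⟩

variable [Finite A]

/-- Central cores pass to the image. -/
theorem cores_map (hA : IsThreeTranspositionClass T) (hf : Function.Surjective f)
    (hinj : Set.InjOn f T) (h2 : pCore 2 A ≤ Subgroup.center A)
    (h3 : pCore 3 A ≤ Subgroup.center A) {p : ℕ} [Fact p.Prime] :
    pCore p B ≤ Subgroup.center B := by
  have : Finite B := Finite.of_surjective f hf
  have hconj := ThreeTrans.class_conj hA
  have hk := ker_le_center hA.2.2 hconj hf hinj
  intro b hb
  obtain ⟨a, rfl⟩ := hf b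
  set M : Subgroup A := (pCore p B).comap f with hM
  have hMn : M.Normal := Subgroup.Normal.comap inferInstance f
  have hnil : Group.IsNilpotent M := by
    have hB : Group.IsNilpotent (pCore p B) :=
      (Core.pCore_isPGroup (p := p) (G := B)).isNilpotent
    have := hB
    refine Subgroup.isNilpotent_of_ker_le_center (f.subgroupComap (pCore p B)) (fun m hm => ?_)
    have h1 : f (m : A) = 1 := congrArg Subtype.val hm
    exact Subgroup.mem_center_iff.2 fun n => Subtype.ext
      (Subgroup.mem_center_iff.1 (hk (MonoidHom.mem_ker.2 h1)) (n : A))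
  exact (mem_center_iff_map hA.2.2 hconj hf hinj).2
    (ThreeTrans.fitting_le_center hA h2 h3 (Core.le_fittingSubgroup hnil hb))

omit [Finite A] in
/-- Solvability is reflected. -/
theorem solvable_of_map (hgen : Subgroup.closure T = ⊤)
    (hconj : ∀ g : A, ∀ t ∈ T, g * t * g⁻¹ ∈ T) (hf : Function.Surjective f)
    (hinj : Set.InjOn f T) (h : Group.IsSolvable B) : Group.IsSolvable A := by
  have hk := ker_le_center hgen hconj hf hinj
  refine Group.isSolvable_of_ker_le_range f.ker.subtype f ?_ (hG' := ?_) (hG'' := h)
  · intro x hx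
    exact ⟨⟨x, hx⟩, rfl⟩
  · exact Group.isSolvable_of_comm fun u v => Subtype.ext (Subgroup.mem_center_iff.1 (hk v.2) u.1)

end Cfsg.Agent.FischerThm
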