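import Cfsg.Agent.FischerThm.Local.Closed

/-!
# The recursive case: the commuting graph on the partners is connected

If `x` and `y` lie in different components of the commuting graph on the partners of `d`, then `d`
is isolated among the common partners of `x` and `y`; by transitivity every set of common partners
of a noncommuting pair has an isolated point, hence, by a parity count, only isolated points, and
then commutation is transitive on the partners of `d`.
-/

set_option autoImplicit false

open Cfsg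
open Cfsg.Agent.ThreeTrans (dperp lowImage Tau Theta commBlock commute_conj)

namespace Cfsg.Agent.FischerThm

variable {G : Type*} [Group G] {D : Set G} {a b c d s u v x y g : G}

theorem dperp_closed (hD : IsThreeTranspositionGroup D) (d : G) :
    ∀ u ∈ dperp D d, ∀ v ∈ dperp D d, u * v * u ∈ dperp D d := by
  intro u hu v hv
  refine ⟨ThreeTrans.conj_mem hD.1 hD.2.1 hu.1 hv.1, fun h => hv.2.1 ?_,
    (hu.2.2.mul_right hv.2.2).mul_right hu.2.2⟩
  calc v = u * (u * v * u) * u := by
        simp only [mul_assoc, ThreeTrans.mul_self hD.1 hu.1, mul_one,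
          ThreeTrans.mul_self_mul hD.1 hu.1]
    _ = d := by rw [h, hu.2.2.symm.eq, ThreeTrans.mul_mul_self hD.1 hu.1]

theorem common_closed (hD : IsThreeTranspositionGroup D) (d c : G) :
    ∀ u ∈ common D d c, ∀ v ∈ common D d c, u * v * u ∈ common D d c := fun u hu v hv =>
  ⟨dperp_closed hD d u hu.1 v hv.1, dperp_closed hD c u hu.2 v hv.2⟩

theorem set_mono {T : Set G} (hD : IsThreeTranspositionSet D) (h : T ⊆ D) :
    IsThreeTranspositionSet T :=
  ⟨fun u hu => hD.1 u (h hu), fun u hu v hv => hD.2 u (h hu) v (h hv)⟩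

/-- A finite set with a fixed point free involutive map has even size. -/
theorem even_of_involution {α : Type*} (I : Finset α) (f : α → α) (hmem : ∀ a ∈ I, f a ∈ I)
    (hinv : ∀ a ∈ I, f (f a) = a) (hne : ∀ a ∈ I, f a ≠ a) : (I.card : ZMod 2) = 0 := by
  have h := Finset.sum_involution (s := I) (f := fun _ => (1 : ZMod 2)) (fun a _ => f a)
    (fun _ _ => by decide) (fun a ha _ => hne a ha) hmem hinv
  simpa using h

/-- In a closed set of 3-transpositions one isolated point forces all points to be isolated. -/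
theorem isolated_all {S : Set G} (hT : IsThreeTranspositionSet S)
    (hc : ∀ u ∈ S, ∀ v ∈ S, u * v * u ∈ S)
    (hfin : S.Finite) (hs : s ∈ S) (hiso : ∀ z ∈ S, Commute s z → z = s) :
    ∀ u ∈ S, ∀ z ∈ S, Commute u z → z = u := by
  classical
  by_contra hcon
  push Not at hcon
  obtain ⟨p, hp, q, hq, hpq, hne⟩ := hcon
  set I := hfin.toFinset.filter fun i => ∀ z ∈ S, Commute i z → z = i with hI
  have hmemI : ∀ {i}, i ∈ I ↔ i ∈ S ∧ ∀ z ∈ S, Commute i z → z = i := by
    intro i; simp [hI]
  have hback : ∀ {e z}, e ∈ S → e * (e * z * e) * e = z := fun {e z} he => by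
    simp only [mul_assoc, ThreeTrans.mul_self hT he, mul_one, ThreeTrans.mul_self_mul hT he]
  have hmap : ∀ e ∈ S, ∀ i ∈ I, e * i * e ∈ I := by
    intro e he i hi
    obtain ⟨hiS, hiI⟩ := hmemI.1 hi
    refine hmemI.2 ⟨hc e he i hiS, fun z hz hcz => ?_⟩
    have h1 : Commute i (e * z * e) := by
      have h2 := (commute_conj e (e * i * e) z).2 hcz
      rwa [ThreeTrans.inv_eq hT he, hback he] at h2
    rw [← hback (z := z) he, hiI _ (hc e he z hz) h1]
  have hfix : ∀ e ∈ S, ∀ i ∈ I, e * i * e = i → i = e ∧ e ∈ I := by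
    intro e he i hi h
    have hcomm : Commute i e := by
      show i * e = e * i
      conv_lhs => rw [← h]
      rw [ThreeTrans.mul_mul_self hT he]
    have := (hmemI.1 hi).2 e he hcomm
    exact ⟨this.symm, this ▸ hi⟩
  have hsI : s ∈ I := hmemI.2 ⟨hs, hiso⟩
  have hpI : p ∉ I := fun h => hne ((hmemI.1 h).2 q hq hpq)
  have h1 : (I.card : ZMod 2) = 0 :=
    even_of_involution I (fun i => p * i * p) (hmap p hp) (fun i _ => hback hp)
      fun i hi h => hpI (hfix p hp i hi h).2
  have h2 : ((I.erase s).card : ZMod 2) = 0 := by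
    refine even_of_involution _ (fun i => s * i * s) (fun i hi => ?_) (fun i _ => hback hs)
      fun i hi h => (Finset.mem_erase.1 hi).1 (hfix s hs i (Finset.mem_erase.1 hi).2 h).1
    refine Finset.mem_erase.2 ⟨fun h => (Finset.mem_erase.1 hi).1 ?_,
      hmap s hs i (Finset.mem_erase.1 hi).2⟩
    rw [← hback (z := i) hs, h, ThreeTrans.mul_self hT hs, one_mul]
  rw [← Finset.card_erase_add_one hsI, Nat.cast_succ, h2, zero_add] at h1
  exact one_ne_zero h1

variable [Finite G]

theorem Hyp.exists_conj_partners (H : Hyp D) (hd : d ∈ D) (hu : u ∈ dperp D d) (hv : v ∈ dperp D d) :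
    ∃ g ∈ lowGroup D d, g * u * g⁻¹ = v := by
  refine ThreeTrans.exists_conj_of_mem_dcomp H.set hu ?_
  rw [ThreeTrans.dcomp_eq_dperp H.sol' H.perf H.cls hd hu]
  exact hv

/-- Commutation is transitive on the partners, or they form a connected graph. -/
theorem Hyp.connected_or_transitive (H : Hyp D) (hd : d ∈ D) :
    (∀ a ∈ dperp D d, ∀ b ∈ dperp D d, b ∈ commBlock (dperp D d) a) ∨
      ∀ u ∈ dperp D d, ∀ v ∈ dperp D d, ∀ w ∈ dperp D d, Commute u v → Commute v w →
        Commute u w := by
  by_contra hcon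
  push Not at hcon
  obtain ⟨⟨x, hx, y, hy, hxy⟩, u, hu, v, hv, w, hw, huv, hvw, huw⟩ := hcon
  have hnxy : ¬ Commute x y := fun h =>
    hxy (Relation.ReflTransGen.single ⟨⟨hx, hy⟩, h⟩)
  -- `d` is isolated among the common partners of `x` and `y`
  have hdS : d ∈ common D x y :=
    ⟨⟨hd, Ne.symm hx.2.1, hx.2.2.symm⟩, hd, Ne.symm hy.2.1, hy.2.2.symm⟩
  have hiso : ∀ z ∈ common D x y, Commute d z → z = d := by
    intro z hz hdz
    by_contra hne
    have hzd : z ∈ dperp D d := ⟨hz.1.1, hne, hdz⟩
    exact hxy (((Relation.ReflTransGen.single ⟨⟨hx, hzd⟩, hz.1.2.2⟩).tail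
      ⟨⟨hzd, hy⟩, hz.2.2.2.symm⟩))
  have hall := isolated_all (set_mono H.set fun z hz => hz.1.1) (common_closed H.group x y)
    (Set.toFinite _) hdS hiso
  -- the same for the pair `u, w`
  obtain ⟨g, hgu, hgw⟩ := H.exists_conj_pair hu.1 ⟨hw.1, huw⟩ hx.1 ⟨hy.1, hnxy⟩
  have hmove : ∀ z ∈ common D u w, g * z * g⁻¹ ∈ common D x y := fun z hz => by
    rw [← hgu, ← hgw]
    exact ⟨ThreeTrans.dperp_conj H.group.2.1 g hz.1, ThreeTrans.dperp_conj H.group.2.1 g hz.2⟩
  have hvd : d ∈ common D u w :=
    ⟨⟨hd, Ne.symm hu.2.1, hu.2.2.symm⟩, hd, Ne.symm hw.2.1, hw.2.2.symm⟩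
  have hvv : v ∈ common D u w :=
    ⟨⟨hv.1, fun h => huw (h ▸ hvw), huv⟩, hv.1, fun h => huw (h ▸ huv), hvw.symm⟩
  have := hall _ (hmove d hvd) _ (hmove v hvv) ((commute_conj g d v).2 hv.2.2)
  exact hv.2.1 (mul_left_cancel (mul_right_cancel this))

namespace Step

variable (S : Step D d)
include S

theorem partners_set : IsThreeTranspositionSet (dperp D d) := set_mono S.set fun _ h => h.1

theorem two_partners : ∃ a ∈ dperp D d, ∃ b ∈ dperp D d, a ≠ b := by
  by_contra hcon
  push Not at hcon
  refine S.nonsolv (Group.isSolvable_of_comm fun p q => Subtype.ext ?_)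
  have h1 : ∀ a ∈ dperp D d, ∀ b ∈ dperp D d, a * b = b * a := fun a ha b hb => by
    rw [hcon a ha b hb]
  have : IsMulCommutative (lowGroup D d) := Subgroup.isMulCommutative_closure h1
  exact congrArg Subtype.val (mul_comm' p q)

theorem class_partners : IsThreeTranspositionClass (inClosure (dperp D d)) := by
  have hg := group_inClosure S.partners_set (dperp_closed S.group d)
  obtain ⟨a, ha, -⟩ := S.two_partners
  refine ⟨hg.1, ⟨⟨a, Subgroup.subset_closure ha⟩, ha, Set.Subset.antisymm ?_ ?_⟩, hg.2.2⟩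
  · intro u hu
    obtain ⟨k, hk, hku⟩ := S.exists_conj_partners S.mem ha hu
    exact isConj_iff.2 ⟨⟨k, hk⟩, Subtype.ext (by simpa using hku)⟩
  · intro u hu
    obtain ⟨k, rfl⟩ := isConj_iff.1 hu
    exact hg.2.1 k _ ha

/-- The commuting graph on the partners is connected. -/
theorem connected_partners : ∀ a ∈ dperp D d, ∀ b ∈ dperp D d, b ∈ commBlock (dperp D d) a := by
  refine (S.connected_or_transitive S.mem).resolve_right fun htr => ?_
  have hC := S.class_partners
  obtain ⟨a, ha, b, hb, hab⟩ := S.two_partners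
  have hC2 : ∃ p ∈ inClosure (dperp D d), ∃ q ∈ inClosure (dperp D d), p ≠ q :=
    ⟨⟨a, Subgroup.subset_closure ha⟩, ha, ⟨b, Subgroup.subset_closure hb⟩, hb,
      fun h => hab (congrArg Subtype.val h)⟩
  have heq : ∀ p ∈ inClosure (dperp D d), ∀ q ∈ inClosure (dperp D d), Commute p q → p = q := by
    intro p hp q hq hpq
    refine ThreeTrans.eq_of_tau_central hC hC2 S.core2 hp hq fun e he => ?_
    rw [commute_inClosure, commute_inClosure]
    have hpq' := commute_inClosure.1 hpq
    exact ⟨fun h => htr _ hq _ hp _ he hpq'.symm h, fun h => htr _ hp _ hq _ he hpq' h⟩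
  have hT : ThreeTrans.IsCubeSet (inClosure (dperp D d)) :=
    { conj := ThreeTrans.class_conj hC
      ord := hC.1.1
      cube := fun p hp q hq => by
        by_cases hc : Commute p q
        · rw [heq p hp q hq hc, ThreeTrans.mul_self hC.1 hq, one_pow]
        · exact ThreeTrans.cube_of_not_commute hC.1 hp hq hc }
  refine hab (congrArg Subtype.val (ThreeTrans.eq_of_mul_mem_center hC hC2 S.core2
    (x := ⟨a, Subgroup.subset_closure ha⟩) (y := ⟨b, Subgroup.subset_closure hb⟩) ha hb
    (S.core3 (hT.mul_mem_pCore ha hb))) :)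

theorem low_and_faithful : Hyp (closedImage (dperp D d)) ∧ Faithful (dperp D d) :=
  closed_hyp_of_cores S.partners_set (dperp_closed S.group d) S.two_partners
    (fun _ ha _ hb => S.exists_conj_partners S.mem ha hb) S.core2 S.core3 S.connected_partners

/-- The smaller group satisfies the hypothesis. -/
theorem low : Hyp (lowSet D d) := S.low_and_faithful.1

theorem faithful : Faithful (dperp D d) := S.low_and_faithful.2

end Step

end Cfsg.Agent.FischerThm
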